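import Cfsg.Agent.H504.XZ.StDF
import Cfsg.Agent.H324.AP.Plus
import Cfsg.Agent.H636.LIN.DF
import Cfsg.Agent.H965.XZ.IdxD
import Cfsg.Agent.H965.XZ.PanPlus
import Cfsg.Agent.H813.SpC.AbOmega
import Cfsg.Agent.H478.XD.RowV0

/-!
# S4791 + S4927, `PΩ⁺_{2m}(q)`, `m ≥ 5` : the row from the good nodes of the linear primes (helper697)

* `num_uni`, `num_uni_big` : the numbers, `ord_p(q) = 2 d`;
* `row_uni` : unitary primes (not `p = 17`, `d = 2`, `m ≤ 6`), `row_exc` : this case;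
* `GoodLin` : the good nodes of the linear primes;
* `row_plus_of` : the row.
-/

set_option autoImplicit false
set_option linter.unusedSectionVars false

open Cfsg Subgroup

namespace Cfsg.Agent.H697.XR

open Cfsg.Agent.H508.KB Cfsg.Agent.H668.XZ Cfsg.Agent.H674.XZ Cfsg.Agent.H504.XZ Cfsg.Agent.H443.XC
open Cfsg.Agent.H508.XR (NC)
open CoxeterSystem Cfsg.Agent.ChevalleyStructure.CoxeterGeom Cfsg.Agent.Tits.Roots
  Cfsg.Agent.Nodes.Reps Cfsg.Agent.Nodes.BNOf Cfsg.Agent.Nodes.StabComb Cfsg.Agent.Nodes.Comb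
  Cfsg.Agent.Nodes.Bruhat Cfsg.Agent.Nodes.OppDec Cfsg.Agent.Nodes.LeviDec
  Cfsg.Agent.H796.BR Cfsg.Agent.H967.XZ
open Cfsg.Agent.H965.XZ (wp gs)
open Cfsg.Agent.Nodes (TypeD.M)

universe u

/-- the numbers: `w ≥ 2` blocks -/
theorem num_uni {m d : ℕ} (hd : 0 < d) (h : 2 * d ≤ m) : 2 * d + 1 ≤ m - wp m d + 1 := by
  have h0 := Nat.mod_lt m hd
  have h1 := Nat.div_add_mod m d
  set w := m / d with hw
  have hw2 : 2 ≤ w := (Nat.le_div_iff_mul_le hd).2 (by omega)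
  unfold wp
  rw [← hw]
  split_ifs with h3 h4
  · have h7 := Nat.mul_le_mul_left d hw2
    omega
  · have h5 : 3 ≤ w := by omega
    have h6 := Nat.mul_le_mul_left d h5
    omega
  · have h7 := Nat.mul_le_mul_left d hw2
    omega

/-- the numbers: `w ≥ p` blocks -/
theorem num_uni_big {m d p : ℕ} (hd : 0 < d) (hp : 1 ≤ p) (h : p * d ≤ m) : p ≤ m - wp m d + 1 := by
  have h0 := Nat.mod_lt m hd
  have h1 := Nat.div_add_mod m d
  set w := m / d with hw
  have hw2 : p ≤ w := (Nat.le_div_iff_mul_le hd).2 h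
  have h8 : w ≤ d * w := Nat.le_mul_of_pos_left _ hd
  unfold wp
  rw [← hw]
  split_ifs with h3 h4
  · omega
  · have h5 : d * w = d * (w - 1) + d := by
      obtain ⟨k, hk⟩ : ∃ k, w = k + 1 := ⟨w - 1, by omega⟩
      rw [hk, Nat.add_sub_cancel]
      ring
    have h6 : w - 1 ≤ d * (w - 1) := Nat.le_mul_of_pos_left _ hd
    omega
  · omega

/-- the numbers: `d = 2`, `m ≥ 7` -/
theorem num_two {m : ℕ} (h : 7 ≤ m) : 6 ≤ m - wp m 2 + 1 := by
  unfold wp
  split_ifs <;> omega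

/-- the arithmetic: `p² > 4 (p - 1)` -/
theorem sq_gt {p R : ℕ} (h11 : 11 ≤ p) (h : p ≤ R) : 4 * (p - 1) < R ^ 2 := by
  have h1 : p ^ 2 ≤ R ^ 2 := Nat.pow_le_pow_left h 2
  have h2 : 11 * p ≤ p ^ 2 := by
    rw [pow_two]
    exact Nat.mul_le_mul_right _ h11
  omega

section rows

variable {p : ℕ} [hp : Fact p.Prime] {M : Ideal AlgInt} {S : Type u} [Group S] [Finite S]

/-- the root group datum of `PΩ⁺` -/
theorem exists_pan {F : Type} [Field F] [Finite F] {k : ℕ} (hk : 3 ≤ k) {r : ℕ} [Fact r.Prime] [CharP F r]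
    (e : S ≃* POmega F (quadFormPlus (k + 2) F)) :
    ∃ (C : Fin (k + 2) → Fin (k + 2) → ℤ) (h : IsCartan (Nodes.TypeD.M k) C) (T : Subgroup S) (n : Fin (k + 2) → S)
      (X : (Fin (k + 2) → ℤ) → Subgroup S), Finite (Nodes.TypeD.M k).Group ∧
      RGD (Nodes.TypeD.M k).toCoxeterSystem h r T n X ∧
      GG (Nodes.TypeD.M k).toCoxeterSystem h T X = ⊤ ∧
      ∀ i : Fin (k + 2), Nat.card (X (sr i)) = Nat.card F := by
  obtain ⟨k, rfl⟩ : ∃ l, k = l + 1 := ⟨k - 1, by omega⟩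
  obtain ⟨C, h, T, n, X, hW, R, hG1, -, -, hX⟩ := (Cfsg.Agent.H965.XZ.pan_po_plus (F := F) k (p := r)).of_equiv e.symm
  exact ⟨C, h, T, n, X, hW, R, KFacts.RgdRigid.GG_eq_top hG1, hX⟩

/-- **Unitary primes** -/
theorem row_uni {k : ℕ} (hk : 3 ≤ k) {W : Type*} [Group W] [Finite W] {cs : CoxeterSystem (Nodes.TypeD.M k) W}
    {C : Fin (k + 2) → Fin (k + 2) → ℤ} {h : IsCartan (Nodes.TypeD.M k) C} {r : ℕ} [Fact r.Prime] {T : Subgroup S}
    {n : Fin (k + 2) → S} {X : (Fin (k + 2) → ℤ) → Subgroup S} (R : RGD cs h r T n X) (hG : GG cs h T X = ⊤) {q : ℕ}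
    (hy : ∀ i : Fin (k + 2), Nat.card (X (sr i)) = q) (h11 : 11 ≤ p) (hM : IsPModular p M)
    (hpS : p ∣ Nat.card S) (hout : AbOut p S) {d : ℕ} (hd : 0 < d) (ho : orderOf (q : ZMod p) = 2 * d)
    (hblk : 2 * d ≤ k + 2) (hz : p = 17 → d = 2 → 5 ≤ k)
    (hbig : p * d ≤ k + 2 ∨ ∃ c, (2 * d) * c = p - 1 ∧ H324.AP.FrmG p S (2 * d)) : Row0 p M S := by
  obtain ⟨h1, h2, h3⟩ := H965.XZ.wit_plus (m := k + 2) ho hd (by omega)
  have hgood : ∀ a ∈ Finset.Icc (wp (k + 2) d) (k + 2), a ≤ k + 2 ∧ GdD p M cs h T X a := by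
    intro a ha
    rw [Finset.mem_Icc] at ha
    refine ⟨ha.2, gdD_of_dvd R hG hM fun i hi => ?_⟩
    exact H965.XZ.dvd_index_D_all R hG hy (by omega) h1 h2 h3 (j := i) (Or.inl (ha.1.trans hi)) (by simp)
  have hc : (Finset.Icc (wp (k + 2) d) (k + 2)).card = k + 2 - wp (k + 2) d + 1 := by
    rw [Nat.card_Icc]
    omega
  rcases hbig with h4 | ⟨c, h4, h5⟩
  · refine driver_D h11 R hG hk hM hpS hout hgood (Or.inl ?_)
    rw [hc]
    exact sq_gt h11 (num_uni_big hd (by omega) h4)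
  · have h6 := num_uni hd hblk
    by_cases h7 : 2 * d = 4 ∧ c = 4
    · -- `p = 17`, `d = 2`
      have hd2 : d = 2 := by omega
      have hp17 : p = 17 := by
        rw [hd2, h7.2] at h4
        omega
      have h8 := hz hp17 hd2
      have h9 := num_two (m := k + 2) (by omega)
      refine driver_D h11 R hG hk hM hpS hout hgood (Or.inr ⟨2 * d, c, h4, by omega, h5, fun _ => ⟨by rw [hc]; exact h6,
        fun _ _ => by rw [hc, hd2]; exact h9⟩⟩)
    · refine driver_D h11 R hG hk hM hpS hout hgood (Or.inr ⟨2 * d, c, h4, by omega, h5, fun _ => ⟨by rw [hc]; exact h6,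
        fun h8 h9 => absurd ⟨h8, h9⟩ h7⟩⟩)

section exc

open Cfsg.Agent.Nodes.WittInst Cfsg.Agent.Nodes.TypeD Cfsg.Agent.TitsThree.KSideO
open Cfsg.Agent.LieClassical.OrthCore Cfsg.Agent.LieClassical.OrthSimple Cfsg.Agent.LieClassical.OrthForms
  Cfsg.Agent.LieClassical.OrthFinite Cfsg.Agent.TitsThree.WittFrame Cfsg.Agent.TitsThree.WBridge

/-- **`p = 17`, `ord_p(q) = 4`, `m = 5, 6`** (helper478's rows: all members are invariant) -/
theorem row_exc {F : Type} [Field F] [Fintype F] {r : ℕ} [Fact r.Prime] [CharP F r] {k : ℕ} (hk : 3 ≤ k)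
    (hk4 : k ≤ 4) (e : S ≃* POmega F (quadFormPlus (k + 2) F)) (h17 : p = 17)
    (ho : orderOf (Fintype.card F : ZMod p) = 4) (hM : IsPModular p M) (hpS : p ∣ Nat.card S) (hout : AbOut p S)
    (hf : H324.AP.FrmG p S 4) : Row0 p M S := by
  have hG : Cfsg.Agent.LieClassical.OrthTrans.Good (Cfsg.Agent.H478.CC.Qp k F) := good_of_finite (nondeg_plusForm (k + 2) F) (by
    rw [Module.finrank_fintype_fun_eq_card, Fintype.card_sum, Fintype.card_fin]
    omega)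
  have hW : Finite (Nodes.TypeD.M k).Group := Nodes.TypeD.finite_W (Nodes.TypeD.M k).toCoxeterSystem
  have R := rgdD_model (wplus (k + 2) F) hG (amb_plus (k + 2)) (adm_plus (k + 2)) (p := r)
    (Nodes.TypeD.M k).toCoxeterSystem
  have hG1 := G1D_eq_top (wplus (k + 2) F) (toPOmega hG) (toPOmega_surjective hG) (adm_plus (k + 2))
    (Nodes.TypeD.M k).toCoxeterSystem
  have hGG := KFacts.RgdRigid.GG_eq_top (T := ((Cfsg.Agent.Nodes.WittRGD.Tor (Cfsg.Agent.H478.CC.Fr k F)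
    (E (Cfsg.Agent.H478.CC.Qp k F))).subgroupOf (E (Cfsg.Agent.H478.CC.Qp k F))).map (toPOmega hG)) hG1
  have hy := fun i => H965.XZ.card_XD (wplus (k + 2) F) hG i
  rw [← Nat.card_eq_fintype_card] at ho
  obtain ⟨h1, h2, h3⟩ := H965.XZ.wit_plus (p := p) (q := Nat.card F) (d := 2) (m := k + 2) ho (by omega) (by omega)
  have h6 := num_uni (m := k + 2) (d := 2) (by omega) (by omega)
  refine H478.XD.row0_plus_fam_frm hG (Nodes.TypeD.M k).toCoxeterSystem R hk hM (by omega) hGG ?_ ?_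
    (s := Finset.Icc (wp (k + 2) 2) (k + 2)) ?_ e hpS hout (d := 4) (c := 4) (by omega) (by omega) ?_ hf
  · intro h7
    have h8 : ((Nat.card F : ℕ) : ZMod p) = 0 := (ZMod.natCast_eq_zero_iff _ _).2 h7
    rw [h8] at ho
    have h9 := pow_orderOf_eq_one (0 : ZMod p)
    rw [ho] at h9
    norm_num at h9
  · intro h7
    have h8 : ((Nat.card F : ℕ) : ZMod p) ^ (k + 2) = 1 := by
      have h9 : ((Nat.card F ^ (k + 2) - 1 : ℕ) : ZMod p) = 0 := (ZMod.natCast_eq_zero_iff _ _).2 h7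
      rw [Nat.cast_sub (Nat.one_le_pow _ _ Nat.card_pos), Nat.cast_pow, Nat.cast_one] at h9
      exact sub_eq_zero.1 h9
    have h9 := orderOf_dvd_of_pow_eq_one h8
    rw [ho] at h9
    omega
  · intro a ha
    rw [Finset.mem_Icc] at ha
    refine ⟨ha.2, gdD_of_dvd R hGG hM fun i hi => ?_⟩
    exact H965.XZ.dvd_index_D_all R hGG hy (by omega) h1 h2 h3 (j := i) (Or.inl (ha.1.trans hi)) (by simp)
  · rw [Nat.card_Icc]
    omega

end exc

/-- the good nodes of a linear prime, type `D_m` -/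
def GoodLin (p : ℕ) [Fact p.Prime] (m w d v : ℕ) (Q : ℕ → Prop) : Prop :=
  (v = 0 → (∀ a, a + 1 < m → tt p w (a / d) ≠ 0 → Q a) ∧ (¬ (p : ℤ) ∣ 2 ^ (w - 1) - 1 → Q (m - 1))) ∧
  (0 < v → (∀ a, v ≤ a → a + 1 < m → 2 * tt p w ((a - v) / d) - tt p w ((a - v + 1) / d) ≠ 0 → Q a) ∧
    (¬ (p : ℤ) ∣ 2 ^ w - 1 → Q (m - 1)))

/-- **Linear primes** -/
theorem row_lin {k : ℕ} (hk : 3 ≤ k) {W : Type*} [Group W] [Finite W] {cs : CoxeterSystem (Nodes.TypeD.M k) W}
    {C : Fin (k + 2) → Fin (k + 2) → ℤ} {h : IsCartan (Nodes.TypeD.M k) C} {r : ℕ} [Fact r.Prime] {T : Subgroup S}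
    {n : Fin (k + 2) → S} {X : (Fin (k + 2) → ℤ) → Subgroup S} (R : RGD cs h r T n X) (hG : GG cs h T X = ⊤)
    (h11 : 11 ≤ p) (hM : IsPModular p M) (hpS : p ∣ Nat.card S) (hout : AbOut p S) {d w v : ℕ} (hd : 0 < d) (hodd : Odd d)
    (hm : v + d * w = k + 2) (hv : v < d) (hw : 2 ≤ w)
    (hg : GoodLin p (k + 2) w d v (GdD p M cs h T X))
    (hbig : p ≤ w ∨ ∃ c, (2 * d) * c = p - 1 ∧ H324.AP.FrmG p S (2 * d)) : Row0 p M S := by
  have hex : ∃ s : Finset ℕ, (∀ a ∈ s, a ≤ k + 2 ∧ GdD p M cs h T X a) ∧ 2 * d + 1 ≤ s.card ∧ (p ≤ w → p ≤ s.card) := by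
    rcases Nat.eq_zero_or_pos v with h1 | h1
    · obtain ⟨h2, h3⟩ := hg.1 h1
      obtain ⟨s, h4, h5, h6⟩ := H636.LIN.exists_goodD0 h11 hd (by omega) hw (gdD_top R hG hM) h2 h3
      exact ⟨s, h4, h5, fun h7 => le_trans (Nat.le_mul_of_pos_left _ hd) (h6 h7)⟩
    · obtain ⟨h2, h3⟩ := hg.2 h1
      obtain ⟨s, h4, h5, h6⟩ := H636.LIN.exists_goodDV h11 (by omega) hm hw (gdD_top R hG hM) h2 h3
      exact ⟨s, h4, h5, fun h7 => le_trans (Nat.le_succ _) (h6 h7)⟩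
  obtain ⟨s, h1, h2, h3⟩ := hex
  refine driver_D h11 R hG hk hM hpS hout h1 ?_
  rcases hbig with h4 | ⟨c, h4, h5⟩
  · exact Or.inl (sq_gt h11 (h3 h4))
  · refine Or.inr ⟨2 * d, c, h4, by omega, h5, fun _ => ⟨h2, fun h6 _ => ?_⟩⟩
    exfalso
    have h7 : d = 2 := by omega
    rw [h7] at hodd
    exact absurd hodd (by decide)

/-- **The row `PΩ⁺_{2m}(q)`, `m ≥ 5`** -/
theorem row_plus_of {r : ℕ} [Fact r.Prime] (hrp : r ≠ p) {F : Type} [Field F] [Fintype F] [CharP F r] {k : ℕ} (hk : 3 ≤ k)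
    (e : S ≃* POmega F (quadFormPlus (k + 2) F)) (h11 : 11 ≤ p) (hM : IsPModular p M) (hP : NC p S)
    (hgd : ∀ (d w v : ℕ), orderOf (Fintype.card F : ZMod p) = d → Odd d → v + d * w = k + 2 → v < d → 2 ≤ w →
      ∃ (C : Fin (k + 2) → Fin (k + 2) → ℤ) (h : IsCartan (Nodes.TypeD.M k) C) (T : Subgroup S) (n : Fin (k + 2) → S)
        (X : (Fin (k + 2) → ℤ) → Subgroup S), Finite (Nodes.TypeD.M k).Group ∧
        RGD (Nodes.TypeD.M k).toCoxeterSystem h r T n X ∧ GG (Nodes.TypeD.M k).toCoxeterSystem h T X = ⊤ ∧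
        GoodLin p (k + 2) w d v (GdD p M (Nodes.TypeD.M k).toCoxeterSystem h T X)) :
    Row0 p M S := by
  have hp2 : p ≠ 2 := by omega
  have hpS : p ∣ Nat.card S := by
    by_contra hcon
    obtain ⟨P⟩ : Nonempty (Sylow p S) := inferInstance
    apply hP P
    have h1 : Nat.card (P : Subgroup S) = 1 := by
      obtain ⟨k, hk⟩ := (IsPGroup.iff_card (p := p)).1 P.isPGroup'
      rcases Nat.eq_zero_or_pos k with rfl | hk0
      · rw [hk, pow_zero]
      · exfalso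
        apply hcon
        exact (dvd_pow_self p hk0.ne').trans (hk ▸ Subgroup.card_subgroup_dvd_card (P : Subgroup S))
    have : Subsingleton (P : Subgroup S) := (Nat.card_eq_one_iff_unique.1 h1).1
    infer_instance
  have hout : AbOut p S := H813.SpC.ab_omegaPlus hrp (by omega) (by omega) ⟨e⟩
  set x : ZMod p := (Fintype.card F : ZMod p) with hx
  have hfin : IsOfFinOrder x := H324.AP.finOrder_q hrp
  have hx0 : x ≠ 0 := by
    intro h0
    rw [h0] at hfin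
    exact absurd hfin.isUnit (by rw [isUnit_zero_iff]; exact zero_ne_one)
  have hp1 : x ^ (p - 1) = 1 := ZMod.pow_card_sub_one_eq_one hx0
  have h2blk := H324.AP.two_plus hrp hp2 (by omega : 3 ≤ k + 2) e hP
  have hab := H324.AP.ab_plus (p := p) hrp hp2 (by omega : 3 ≤ k + 2) e
  have hfrm := fun hA => H324.AP.frmG_plus hrp hp2 (by omega : 3 ≤ k + 2) e hA hP
  rw [← hx] at h2blk hab hfrm
  have hopos : 0 < orderOf x := hfin.orderOf_pos
  have hsq : orderOf (x ^ 2) = orderOf x / Nat.gcd (orderOf x) 2 := IsOfFinOrder.orderOf_pow x 2 hfin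
  set d := orderOf (x ^ 2) with hdef
  have hd2 : (2 * d) ∣ p - 1 := by
    have h1 : orderOf x ∣ p - 1 := orderOf_dvd_of_pow_eq_one hp1
    rcases Nat.even_or_odd (orderOf x) with he | ho
    · rw [Nat.gcd_eq_right he.two_dvd] at hsq
      rw [hsq, Nat.mul_div_cancel' he.two_dvd]
      exact h1
    · have h2 : Nat.gcd (orderOf x) 2 = 1 := Nat.coprime_two_right.2 ho
      rw [h2, Nat.div_one] at hsq
      rw [hsq]
      have h4 : 2 ∣ p - 1 := by
        obtain ⟨j, hj⟩ := hp.out.odd_of_ne_two hp2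
        exact ⟨j, by omega⟩
      exact Nat.Coprime.mul_dvd_of_dvd_of_dvd (Nat.coprime_two_left.2 ho) h4 h1
  obtain ⟨c, hc⟩ := hd2
  have hcase : p * d ≤ k + 2 ∨ ∃ c, (2 * d) * c = p - 1 ∧ H324.AP.FrmG p S (2 * d) := by
    rcases Nat.lt_or_ge (k + 2) (p * d) with h1 | h1
    · exact Or.inr ⟨c, hc.symm, hfrm (hab h1)⟩
    · exact Or.inl h1
  rcases Nat.even_or_odd (orderOf x) with he | ho
  · -- unitary
    rw [Nat.gcd_eq_right he.two_dvd] at hsq
    have h1 : orderOf x = 2 * d := by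
      rw [hsq, Nat.mul_div_cancel' he.two_dvd]
    have hd : 0 < d := by omega
    by_cases hexc : p = 17 ∧ d = 2 ∧ k < 5
    · obtain ⟨h17, h2, h5⟩ := hexc
      have hf := hfrm (hab (by rw [h17, h2]; omega))
      rw [h2] at hf
      exact row_exc (r := r) hk (by omega) e h17 (by rw [← hx, h1, h2]) hM hpS hout hf
    · obtain ⟨C, h, T, n, X, hW, R, hG, hy⟩ := exists_pan hk (r := r) e
      refine row_uni hk R hG hy h11 hM hpS hout hd (by rw [Nat.card_eq_fintype_card, ← hx, h1]) h2blk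
        (fun h17 h2 => ?_) hcase
      by_contra h5
      exact hexc ⟨h17, h2, by omega⟩
  · -- linear
    have h2 : Nat.gcd (orderOf x) 2 = 1 := Nat.coprime_two_right.2 ho
    rw [h2, Nat.div_one] at hsq
    have hd : 0 < d := by omega
    have h4 := Nat.div_add_mod (k + 2) d
    have hw : 2 ≤ (k + 2) / d := (Nat.le_div_iff_mul_le hd).2 h2blk
    obtain ⟨C, h, T, n, X, hW, R, hG, hg⟩ := hgd d ((k + 2) / d) ((k + 2) % d) hsq.symm (hsq ▸ ho) (by omega)
      (Nat.mod_lt _ hd) hw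
    refine row_lin hk R hG h11 hM hpS hout hd (hsq ▸ ho) (by omega) (Nat.mod_lt _ hd) hw hg ?_
    rcases hcase with h5 | h5
    · exact Or.inl ((Nat.le_div_iff_mul_le hd).2 h5)
    · exact Or.inr h5

end rows

end Cfsg.Agent.H697.XR
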